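import Groth.Agent.PerfHomLib.Base
import Groth.Agent.KoszOrthLib.Detect
import Groth.Agent.KoszOrthLib.Hocolim

/-!
# Countable groups of morphisms
-/

set_option autoImplicit false
set_option linter.style.haveILetI false
set_option backward.isDefEq.respectTransparency false
set_option backward.isDefEq.respectTransparency.types false
set_option maxHeartbeats 1000000

universe w u v u'

open CategoryTheory CategoryTheory.Limits CategoryTheory.Pretriangulated AlgebraicGeometry Opposite
open DerivedCategory.TStructure (t)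
open PerfCompLib (FinFac cut proj)

attribute [local instance] HasDerivedCategory.standard

namespace Groth.Agent.CountHomLib

section Groups

theorem countable_of_exact {A B C : Type*} [AddCommGroup A] [AddCommGroup B] [AddCommGroup C]
    [Countable A] [Countable C] (g : A → B) (r : B →+ C) (h : ∀ b, r b = 0 → ∃ a, g a = b) : Countable B := by
  classical
  let s : C → B := fun c => if hc : ∃ b, r b = c then hc.choose else 0
  refine Function.Surjective.countable (f := fun p : A × C => g p.1 + s p.2) fun b => ?_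
  have hs : r (s (r b)) = r b := by
    simp only [s, dif_pos (show ∃ b', r b' = r b from ⟨b, rfl⟩)]
    exact (show ∃ b', r b' = r b from ⟨b, rfl⟩).choose_spec
  obtain ⟨a, ha⟩ := h (b - s (r b)) (by rw [map_sub, hs, sub_self])
  refine ⟨(a, r b), ?_⟩
  change g a + s (r b) = b
  rw [ha, sub_add_cancel]

variable {D : Type u'} [Category.{v} D] [Preadditive D]

/-- Maps into a countable sum factoring through finite subfamilies form a countable set. -/
theorem countable_of_finFac {ι : Type*} [Countable ι] {X : ι → D} [HasCoproduct X] {K : D} (h : FinFac X K)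
    (hc : ∀ i, Countable (K ⟶ X i)) : Countable (K ⟶ ∐ X) := by
  classical
  haveI := hc
  refine Function.Surjective.countable
    (f := fun p : (Σ S : Finset ι, ∀ i : S, (K ⟶ X i.1)) => ∑ i : p.1, p.2 i ≫ Sigma.ι X i.1) fun f => ?_
  obtain ⟨S, hS⟩ := h f
  refine ⟨⟨S, fun i => f ≫ proj X i.1⟩, ?_⟩
  conv_rhs => rw [← hS, PerfCompLib.cut_eq_sum, Preadditive.comp_sum]
  rw [← Finset.sum_coe_sort S]
  simp only [Category.assoc]

theorem countable_of_iso {K K' M M' : D} (a : K ≅ K') (b : M ≅ M') (h : Countable (K ⟶ M)) :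
    Countable (K' ⟶ M') :=
  (a.homCongr b).symm.injective.countable

variable [HasZeroObject D] [HasShift D ℤ] [∀ n : ℤ, (shiftFunctor D n).Additive] [Pretriangulated D]

/-- All shifted Hom groups are countable. -/
def CH (M L : D) : Prop := ∀ i : ℤ, Countable (M ⟶ L⟦i⟧)

theorem CH.of_retract {M N L : D} (h : CH M L) (i : N ⟶ M) (r : M ⟶ N) (hir : i ≫ r = 𝟙 N) : CH N L := fun n =>
  haveI := h n
  Function.Injective.countable (f := fun φ : N ⟶ L⟦n⟧ => r ≫ φ) fun φ ψ e => by
    have := congrArg (i ≫ ·) e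
    simpa [← Category.assoc, hir] using this

theorem CH.of_iso {M N L : D} (e : M ≅ N) (h : CH M L) : CH N L := h.of_retract e.inv e.hom e.inv_hom_id

theorem CH.of_iso' {M L L' : D} (e : L ≅ L') (h : CH M L) : CH M L' := fun i =>
  countable_of_iso (Iso.refl M) ((shiftFunctor D i).mapIso e) (h i)

theorem CH.of_isZero {M : D} (hM : IsZero M) (L : D) : CH M L := fun i =>
  haveI : Subsingleton (M ⟶ L⟦i⟧) := ⟨fun a b => hM.eq_of_src a b⟩
  Finite.to_countable

theorem CH.shift {M L : D} (h : CH M L) (n : ℤ) : CH (M⟦n⟧) L := fun i => by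
  haveI := h (i + -n)
  let a : (M⟦n⟧)⟦-n⟧ ≅ M := (shiftFunctorCompIsoId D n (-n) (by omega)).app M
  let b := ((shiftFunctorAdd' D i (-n) (i + -n) rfl).app L).symm
  exact Function.Injective.countable (f := fun φ : M⟦n⟧ ⟶ L⟦i⟧ => a.inv ≫ φ⟦-n⟧' ≫ b.hom) fun φ ψ e =>
    (shiftFunctor D (-n)).map_injective ((cancel_mono b.hom).1 ((cancel_epi a.inv).1 e))

theorem CH.shift' {M L : D} (h : CH M L) (n : ℤ) : CH M (L⟦n⟧) := fun i =>
  countable_of_iso (Iso.refl M) ((shiftFunctorAdd' D n i (n + i) rfl).app L) (h (n + i))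

theorem CH.ext₂ (T : Triangle D) (hT : T ∈ distTriang _) {L : D} (h₁ : CH T.obj₁ L) (h₃ : CH T.obj₃ L) :
    CH T.obj₂ L := fun i =>
  haveI := h₁ i
  haveI := h₃ i
  countable_of_exact (fun ψ : T.obj₃ ⟶ L⟦i⟧ => T.mor₂ ≫ ψ) (Preadditive.leftComp (L⟦i⟧) T.mor₁)
    fun φ hφ => by
      obtain ⟨ψ, hψ⟩ := Triangle.yoneda_exact₂ _ hT φ hφ
      exact ⟨ψ, hψ.symm⟩

theorem CH.ext₂' (T : Triangle D) (hT : T ∈ distTriang _) {M : D} (h₁ : CH M T.obj₁) (h₃ : CH M T.obj₃) :
    CH M T.obj₂ := fun i =>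
  haveI : Countable (M ⟶ ((Triangle.shiftFunctor D i).obj T).obj₁) := h₁ i
  haveI : Countable (M ⟶ ((Triangle.shiftFunctor D i).obj T).obj₃) := h₃ i
  countable_of_exact (fun ψ : M ⟶ ((Triangle.shiftFunctor D i).obj T).obj₁ => ψ ≫ ((Triangle.shiftFunctor D i).obj T).mor₁)
    (Preadditive.rightComp M ((Triangle.shiftFunctor D i).obj T).mor₂) fun φ hφ => by
      obtain ⟨ψ, hψ⟩ := Triangle.coyoneda_exact₂ _ (Triangle.shift_distinguished T hT i) φ hφ
      exact ⟨ψ, hψ.symm⟩

theorem CH.biprod [HasBinaryBiproducts D] {M N L : D} (hM : CH M L) (hN : CH N L) : CH (M ⊞ N) L := fun i =>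
  haveI := hM i
  haveI := hN i
  Function.Injective.countable (f := fun φ : M ⊞ N ⟶ L⟦i⟧ => (biprod.inl ≫ φ, biprod.inr ≫ φ)) fun φ ψ e =>
    biprod.hom_ext' _ _ (congrArg Prod.fst e) (congrArg Prod.snd e)

end Groups

section Sheaf

variable {X : Scheme.{u}} {W : X.Opens}

open PerfHomLib (free0)

theorem countable_sections_of_iso {M N : X.Modules} (e : M ≅ N) (h : Countable Γ(M, W)) : Countable Γ(N, W) :=
  (((KFlatLib.freeUEquiv W M).symm.trans ((Iso.refl _).homCongr e)).trans (KFlatLib.freeUEquiv W N)).symm.injective.countable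

/-- Maps out of the free module on an affine open are sections of the zeroth cohomology. -/
theorem nonempty_free0Equiv (hW : IsAffineOpen W) {L : DCoh.D X} (hL : DCoh.IsQCohD L) :
    Nonempty ((free0 W ⟶ L) ≃ Γ(DCoh.HD L 0, W)) := by
  obtain ⟨A, B, hA, hB, f, g, h, hT⟩ := t.exists_triangle L (-1) 0 (by omega)
  haveI : A.IsLE (-1) := ⟨hA⟩
  haveI : B.IsGE 0 := ⟨hB⟩
  have zA : ∀ q, -1 < q → IsZero (DCoh.HD A q) := fun q hq => DerivedCategory.isZero_of_isLE A (-1) q hq
  have zB : ∀ q, q < 0 → IsZero (DCoh.HD B q) := fun q hq => DerivedCategory.isZero_of_isGE B 0 q hq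
  have qA : DCoh.IsQCohD A := fun q => by
    by_cases hq : q ≤ -1
    · haveI : IsIso ((DerivedCategory.homologyFunctor X.Modules q).map f) :=
        DerLib.Devissage.isIso_homologyMap_mor₁ _ hT q (zB q (by omega)) (zB (q - 1) (by omega))
      exact @QCohLib.isQCoh_of_iso _ _ _ (asIso ((DerivedCategory.homologyFunctor X.Modules q).map f)).symm (hL q)
    · exact KFlatLib.isQCoh_zero (zA q (by omega))
  have qB : DCoh.IsQCohD B :=
    KFlatLib.isQCohD₂ (rot_of_distTriang _ hT) hL (KFlatLib.isQCohD_shift qA 1)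
  obtain ⟨C, E, hC, hE, f', g', h', hT'⟩ := t.exists_triangle B 0 1 (by omega)
  haveI : C.IsLE 0 := ⟨hC⟩
  haveI : E.IsGE 1 := ⟨hE⟩
  have zE : ∀ q, q < 1 → IsZero (DCoh.HD E q) := fun q hq => DerivedCategory.isZero_of_isGE E 1 q hq
  haveI : C.IsGE 0 := by
    rw [DerivedCategory.isGE_iff]
    intro q hq
    haveI : IsIso ((DerivedCategory.homologyFunctor X.Modules q).map f') :=
      DerLib.Devissage.isIso_homologyMap_mor₁ _ hT' q (zE q (by omega)) (zE (q - 1) (by omega))
    exact (zB q hq).of_iso (asIso ((DerivedCategory.homologyFunctor X.Modules q).map f'))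
  have qC : DCoh.IsQCohD C := fun q => by
    by_cases hq : q ≤ 0
    · haveI : IsIso ((DerivedCategory.homologyFunctor X.Modules q).map f') :=
        DerLib.Devissage.isIso_homologyMap_mor₁ _ hT' q (zE q (by omega)) (zE (q - 1) (by omega))
      exact @QCohLib.isQCoh_of_iso _ _ _ (asIso ((DerivedCategory.homologyFunctor X.Modules q).map f')).symm (qB q)
    · exact KFlatLib.isQCoh_zero (DerivedCategory.isZero_of_isLE C 0 q (by omega))
  have qE : DCoh.IsQCohD E :=
    KFlatLib.isQCohD₂ (rot_of_distTriang _ hT') qB (KFlatLib.isQCohD_shift qC 1)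
  obtain ⟨G, ⟨eC⟩⟩ := DerivedCategory.exists_iso_singleFunctor_obj_of_isGE_of_isLE C 0
  haveI : IsIso ((DerivedCategory.homologyFunctor X.Modules 0).map g) :=
    DerLib.Devissage.isIso_homologyMap_mor₂ _ hT 0 (zA 0 (by omega)) (zA 1 (by omega))
  haveI : IsIso ((DerivedCategory.homologyFunctor X.Modules 0).map f') :=
    DerLib.Devissage.isIso_homologyMap_mor₁ _ hT' 0 (zE 0 (by omega)) (zE (0 - 1) (by omega))
  let eG : DCoh.HD L 0 ≅ G :=
    asIso ((DerivedCategory.homologyFunctor X.Modules 0).map g) ≪≫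
      (asIso ((DerivedCategory.homologyFunctor X.Modules 0).map f')).symm ≪≫
      (DerivedCategory.homologyFunctor X.Modules 0).mapIso eC ≪≫
      (DerivedCategory.singleFunctorCompHomologyFunctorIso X.Modules 0).app G
  have hg : Function.Bijective (fun φ : free0 W ⟶ L => φ ≫ g) := by
    refine ⟨fun φ ψ e => ?_, fun y => ?_⟩
    · rw [← sub_eq_zero]
      obtain ⟨a, ha⟩ := Triangle.coyoneda_exact₂ _ hT (φ - ψ)
        ((Preadditive.sub_comp _ _ _).trans (sub_eq_zero.2 e))
      rw [ha, PerfHomLib.hom_free0_eq_zero hW qA (zA 0 (by omega)) a]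
      exact zero_comp
    · obtain ⟨φ, hφ⟩ := Triangle.coyoneda_exact₃ _ hT y
        (PerfHomLib.hom_free0_eq_zero hW (KFlatLib.isQCohD_shift qA 1)
          ((zA (1 + 0) (by omega)).of_iso (KoszOrthLib.hdShiftIso A 1 0)) _)
      exact ⟨φ, hφ.symm⟩
  have hf : Function.Bijective (fun φ : free0 W ⟶ C => φ ≫ f') := by
    refine ⟨fun φ ψ e => ?_, fun y => ?_⟩
    · rw [← sub_eq_zero]
      obtain ⟨a, ha⟩ := Triangle.coyoneda_exact₂ _ (inv_rot_of_distTriang _ hT') (φ - ψ)
        ((Preadditive.sub_comp _ _ _).trans (sub_eq_zero.2 e))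
      rw [ha, PerfHomLib.hom_free0_eq_zero hW (KFlatLib.isQCohD_shift qE (-1))
        ((zE (-1 + 0) (by omega)).of_iso (KoszOrthLib.hdShiftIso E (-1) 0)) a]
      exact zero_comp
    · obtain ⟨φ, hφ⟩ := Triangle.coyoneda_exact₂ _ hT' y (PerfHomLib.hom_free0_eq_zero hW qE (zE 0 (by omega)) _)
      exact ⟨φ, hφ.symm⟩
  let S := DerivedCategory.singleFunctor X.Modules 0
  haveI : S.Full := inferInstance
  let e : (free0 W ⟶ L) ≃ Γ(DCoh.HD L 0, W) :=
    (Equiv.ofBijective _ hg).trans ((Equiv.ofBijective _ hf).symm.trans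
      ((((DerivedCategory.singleFunctorIsoCompQ X.Modules 0).app (KFlatLib.freeU W)).symm.homCongr eC).trans
        ((Equiv.ofBijective (S.map : (KFlatLib.freeU W ⟶ G) → _) ⟨S.map_injective, S.map_surjective⟩).symm.trans
          (((Iso.refl _).homCongr eG.symm).trans (KFlatLib.freeUEquiv W _)))))
  exact ⟨e⟩

theorem countable_free0_iff (hW : IsAffineOpen W) {L : DCoh.D X} (hL : DCoh.IsQCohD L) :
    Countable (free0 W ⟶ L) ↔ Countable Γ(DCoh.HD L 0, W) :=
  let ⟨e⟩ := nonempty_free0Equiv hW hL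
  e.countable_iff

/-- Countability of the Hom groups out of the free module is countability of the sections of cohomology. -/
theorem ch_free0_iff (hW : IsAffineOpen W) {L : DCoh.D X} (hL : DCoh.IsQCohD L) :
    CH (free0 W) L ↔ ∀ i : ℤ, Countable Γ(DCoh.HD L i, W) := by
  refine forall_congr' fun i => (countable_free0_iff hW (KFlatLib.isQCohD_shift hL i)).trans ?_
  let e : DCoh.HD (L⟦i⟧) 0 ≅ DCoh.HD L i :=
    ((DerivedCategory.homologyFunctor X.Modules 0).shiftIso i 0 i (by omega)).app L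
  exact ⟨countable_sections_of_iso e, countable_sections_of_iso e.symm⟩

/-- Countable sums have countably many sections over affine opens. -/
theorem countable_sections_sigma [HasColimitsOfShape (Discrete ℕ) (DCoh.D X)] (hW : IsAffineOpen W)
    (E : ℕ → DCoh.D X) (i : ℤ) (h : ∀ n, Countable Γ(DCoh.HD (E n) i, W)) :
    Countable Γ(DCoh.HD (∐ E) i, W) := by
  obtain ⟨hc⟩ := KoszOrthLib.isColimit_HD_cofan E i
  let Y : ULift.{u} ℕ → X.Modules := fun m => DCoh.HD (E m.down) i
  let e : DCoh.HD (∐ E) i ≅ ∐ Y :=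
    (PerfCompLib.isColimitULift.{0, u} _ hc).coconePointUniqueUpToIso (coproductIsCoproduct Y)
  refine countable_sections_of_iso e.symm ?_
  haveI : Countable (KFlatLib.freeU W ⟶ ∐ Y) := countable_of_finFac
    (fun g => PerfCompLib.exists_cut_freeU hW.isCompact hW.isQuasiSeparated Y g)
    fun m => haveI := h m.down; (KFlatLib.freeUEquiv W _).injective.countable
  exact (KFlatLib.freeUEquiv W (∐ Y)).symm.injective.countable

end Sheaf

end Groth.Agent.CountHomLib
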