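import Groth.Agent.CountHomLib.Basic
import Groth.Agent.PerfHomLib.Van
import Groth.Agent.KoszOrthLib.Aff
import Groth.Agent.PCExtLib.Attach

/-!
# Countable groups of morphisms out of perfect objects
-/

set_option autoImplicit false
set_option linter.style.haveILetI false
set_option backward.isDefEq.respectTransparency false
set_option backward.isDefEq.respectTransparency.types false
set_option maxHeartbeats 1000000

universe u

open CategoryTheory CategoryTheory.Limits AlgebraicGeometry CategoryTheory.Pretriangulated TopologicalSpace Opposite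
open PerfCompLib (extU FreeModel shortExact_mvSeq)
open PerfHomLib (free0 extQ)

attribute [local instance] HasDerivedCategory.standard

namespace Groth.Agent.CountHomLib

variable {X : Scheme.{u}}

/-- All shifted Hom groups out of free modules on affine opens into `L` are countable. -/
def CountSec (L : DCoh.D X) : Prop := ∀ W : X.Opens, IsAffineOpen W → CH (free0 W) L

theorem countSec_iff {L : DCoh.D X} (hL : DCoh.IsQCohD L) :
    CountSec L ↔ ∀ W : X.Opens, IsAffineOpen W → ∀ i : ℤ, Countable Γ(DCoh.HD L i, W) :=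
  forall_congr' fun W => forall_congr' fun hW => ch_free0_iff hW hL

variable {L : DCoh.D X}

theorem ch_single_free (hc : CountSec L) {W : X.Opens} (hW : IsAffineOpen W) {G : W.toScheme.Modules}
    (hG : KFlatLib.IsFinFree G) (p : ℤ) :
    CH (DerivedCategory.Q.obj ((CochainComplex.singleFunctor X.Modules p).obj
      ((CxOX.extZero W.ι).obj G))) L := by
  classical
  obtain ⟨k, ⟨ek⟩⟩ := hG
  let J := CxOX.extZero W.ι
  let S := CochainComplex.singleFunctor X.Modules p ⋙ DerivedCategory.Q
  have h0 : CH (S.obj (KFlatLib.freeU W)) L :=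
    CH.of_iso (((DerivedCategory.Q.commShiftIso (-p)).app _).symm ≪≫
      DerivedCategory.Q.mapIso (((CochainComplex.singleFunctors X.Modules).shiftIso (-p) p 0
        (by omega)).app (KFlatLib.freeU W))) ((hc W hW).shift (-p))
  haveI : HasFiniteBiproducts X.Modules := Abelian.hasFiniteBiproducts
  let P : Fin k → X.Modules := fun _ => KFlatLib.freeU W
  refine CH.of_iso (M := S.obj (⨁ P)) (S.mapIso (biproduct.isoCoproduct P ≪≫
    Sigma.mapIso (fun _ => (PerfCompLib.extZeroUnitIso W).symm) ≪≫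
    (PreservesCoproduct.iso J (fun _ : Fin k => Coh.structureModule _)).symm ≪≫ J.mapIso ek.symm)) ?_
  intro n
  haveI := h0 n
  haveI : S.Additive := inferInstance
  refine Function.Injective.countable
    (f := fun φ : S.obj (⨁ P) ⟶ L⟦n⟧ => fun i : Fin k => S.map (biproduct.ι P i) ≫ φ) fun φ ψ e => ?_
  rw [← Category.id_comp φ, ← Category.id_comp ψ, ← S.map_id, ← biproduct.total, S.map_sum,
    Preadditive.sum_comp, Preadditive.sum_comp]
  refine Finset.sum_congr rfl fun i _ => ?_
  rw [S.map_comp, Category.assoc, Category.assoc]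
  exact congrArg (S.map (biproduct.π P i) ≫ ·) (congrFun e i)

theorem ch_extQ_of_freeModel (hc : CountSec L) {V : X.Opens} (hV : IsAffineOpen V)
    {F : CochainComplex X.Modules ℤ} (hF : FreeModel V F) : CH (extQ V F) L := by
  obtain ⟨E, ⟨⟨a, b, hE⟩, hf⟩, ⟨e⟩⟩ := hF
  let J := CxOX.extZero (Scheme.Opens.ι V)
  let JC := J.mapHomologicalComplex (ComplexShape.up ℤ)
  let c : ((extU V).mapHomologicalComplex (ComplexShape.up ℤ)).obj F ≅
      JC.obj ((DCoh.restrictCx V).obj F) :=
    HomologicalComplex.Hom.isoOfComponents (fun i => Iso.refl _)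
      (fun i j _ => (Category.id_comp _).trans (Category.comp_id _).symm)
  refine CH.of_iso (DerivedCategory.Q.mapIso c ≪≫ (J.mapDerivedCategoryFactors.app _).symm ≪≫
    J.mapDerivedCategory.mapIso e ≪≫ J.mapDerivedCategoryFactors.app E).symm ?_
  exact PerfCompLib.prop_Q_of_bounded (fun M => CH M L) (fun e h => CH.of_iso e h)
    (fun T hT => CH.ext₂ T hT) (fun h => CH.of_isZero h L) (b - a).toNat (JC.obj E) a b (by omega)
    (fun i hi => J.map_isZero (hE i hi))
    fun i _ _ => ch_single_free hc hV (hf i) i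

theorem ch_sup {F : CochainComplex X.Modules ℤ} {P : Opens X.toTopCat → Prop}
    (hinf : ∀ U V, P U → P V → P (U ⊓ V)) (hP : ∀ U, P U → CH (extQ U F) L) :
    ∀ (n : ℕ) (W : Fin n → Opens X.toTopCat), (∀ k, P (W k)) → CH (extQ (Finset.univ.sup W) F) L
  | 0, W, _ => by
    have : Finset.univ.sup W = (⊥ : Opens X.toTopCat) := Finset.sup_empty
    rw [this]
    exact CH.of_isZero (DerivedCategory.Q.map_isZero (PerfCompLib.isZero_extU_bot F)) L
  | n + 1, W, hW => by
    let T : Opens X.toTopCat := Finset.univ.sup fun k : Fin n => W k.succ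
    have hsup : Finset.univ.sup W = W 0 ⊔ T := by
      rw [Fin.univ_succ, Finset.sup_cons, Finset.sup_map]
      rfl
    have h₁ := hP _ (hW 0)
    have h₂ := ch_sup hinf hP n (fun k => W k.succ) fun k => hW k.succ
    have h₀ := ch_sup hinf hP n (fun k => W 0 ⊓ W k.succ) fun k => hinf _ _ (hW 0) (hW k.succ)
    rw [hsup]
    have hinf' : W 0 ⊓ T = Finset.univ.sup fun k : Fin n => W 0 ⊓ W k.succ :=
      Finset.sup_inf_distrib_left _ _ _
    have hd := DerivedCategory.triangleOfSES_distinguished (shortExact_mvSeq (W 0) T F)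
    haveI : HasBinaryBiproducts (DCoh.D X) := HasBinaryBiproducts.of_hasBinaryProducts
    haveI : PreservesFiniteBiproducts (DerivedCategory.Q (C := X.Modules)) :=
      Functor.preservesFiniteBiproductsOfAdditive _
    haveI : PreservesBinaryBiproducts (DerivedCategory.Q (C := X.Modules)) :=
      preservesBinaryBiproducts_of_preservesBiproducts _
    exact CH.ext₂ _ (rot_of_distTriang _ hd)
      (CH.of_iso (DerivedCategory.Q.mapBiprod _ _).symm (h₁.biprod h₂))
      ((show CH (extQ (W 0 ⊓ T) F) L by rw [hinf']; exact h₀).shift 1)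

theorem ch_of_le_affine {F : CochainComplex X.Modules ℤ} {W : X.Opens} (hW : IsAffineOpen W)
    (hP : ∀ V : X.Opens, IsAffineOpen V → V ≤ W → CH (extQ V F) L) {V : Opens X.toTopCat}
    (hV : IsCompact (V : Set X.toTopCat)) (hle : V ≤ W) : CH (extQ V F) L := by
  let I := {g : Γ(X, W) // X.basicOpen g ≤ V}
  obtain ⟨n, f, hf⟩ := PerfHomLib.exists_fin_sup (fun g : I => (X.basicOpen g.1 : Opens X.toTopCat)) hV
    (fun x hx => by
      obtain ⟨g, hg, hxg⟩ := hW.exists_basicOpen_le (V := V) ⟨x, hx⟩ (hle hx)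
      exact Opens.mem_iSup.2 ⟨⟨g, hg⟩, hxg⟩) fun g => g.2
  rw [← hf]
  refine ch_sup (P := fun U => ∃ g : Γ(X, W), U = X.basicOpen g) ?_ ?_ n _ fun k => ⟨_, rfl⟩
  · rintro _ _ ⟨g, rfl⟩ ⟨h, rfl⟩
    exact ⟨g * h, (X.basicOpen_mul g h).symm⟩
  · rintro _ ⟨g, rfl⟩
    exact hP _ (hW.basicOpen g) (X.basicOpen_le g)

variable [CompactSpace X] [QuasiSeparatedSpace X]

/-- Maps out of a perfect object into an object with countable sections form countable groups. -/
theorem ch_of_isPerfect (hc : CountSec L) {E : DCoh.D X} (hE : DCoh.IsPerfect E) : CH E L := by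
  obtain ⟨F, ⟨eF⟩⟩ : ∃ F, Nonempty (DerivedCategory.Q.obj F ≅ E) :=
    ⟨_, ⟨DerivedCategory.Q.objObjPreimageIso E⟩⟩
  have hF : DCoh.IsPerfect (DerivedCategory.Q.obj F) := PerfLib.isPerfect_of_iso eF.symm hE
  choose U hxU hU using fun x : X => PerfCompLib.exists_freeModel hF x
  choose W hW hxW hWU using fun x : X => Opens.isBasis_iff_nbhd.mp X.isBasis_affineOpens (hxU x)
  obtain ⟨n, f, hf⟩ := PerfHomLib.exists_fin_sup (fun x => (W x : Opens X.toTopCat)) (V := ⊤)
    (@isCompact_univ X.toTopCat _ ‹CompactSpace X›)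
    (fun x _ => Opens.mem_iSup.2 ⟨x, hxW x⟩) fun x => le_top
  obtain ⟨e⟩ := PerfHomLib.nonempty_extQ_top F
  refine CH.of_iso (e ≪≫ eF) ?_
  rw [← hf]
  refine ch_sup (P := fun V => IsCompact (V : Set X.toTopCat) ∧ ∃ x, V ≤ W x) ?_ ?_ n _
    fun k => ⟨(hW _).isCompact, _, le_rfl⟩
  · rintro A B ⟨hA, x, hx⟩ ⟨hB, -⟩
    refine ⟨?_, x, inf_le_left.trans hx⟩
    rw [Opens.coe_inf]
    exact (@IsQuasiSeparated.of_quasiSeparatedSpace X.toTopCat _ ‹QuasiSeparatedSpace X› Set.univ) _ _
      (Set.subset_univ _) A.isOpen hA (Set.subset_univ _) B.isOpen hB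
  · rintro A ⟨hA, x, hx⟩
    exact ch_of_le_affine (hW x)
      (fun V hV hVW => ch_extQ_of_freeModel hc hV ((hU x).mono (hVW.trans (hWU x)))) hA hx

omit [CompactSpace X] [QuasiSeparatedSpace X]

/-- The homology of a bounded complex of finite modules over a countable ring is countable. -/
theorem countable_homology {A : Type u} [CommRing A] [Countable A] {K : Dual.D A} (h : DRing.IsPerfect A K)
    (i : ℤ) : Countable ((DerivedCategory.homologyFunctor (ModuleCat.{u} A) i).obj K) := by
  obtain ⟨P, a, b, -, hP, ⟨e⟩⟩ := h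
  obtain ⟨q, hq, -⟩ := PCExtLib.exists_class P i
  haveI : Countable (P.X i) := by
    haveI := (hP i).1
    obtain ⟨n, f, hf⟩ := Module.Finite.exists_fin' A (P.X i)
    exact hf.countable
  have hh : Countable ((HomologicalComplex.homologyFunctor (ModuleCat.{u} A) (ComplexShape.up ℤ) i).obj P) :=
    hq.countable
  exact @Function.Injective.countable _ _ hh _ ((((DerivedCategory.homologyFunctorFactors (ModuleCat.{u} A) i).app P).symm ≪≫
    (DerivedCategory.homologyFunctor (ModuleCat.{u} A) i).mapIso e).toLinearEquiv).toEquiv.symm.injective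

theorem countable_sections_affine [IsAffine X] (hA : Countable Γ(X, ⊤)) {E : DCoh.D X} (hE : DCoh.IsPerfect E)
    (i : ℤ) : Countable Γ(DCoh.HD E i, ⊤) := by
  obtain ⟨M, ⟨e⟩⟩ := KoszOrthLib.exists_tX_iso (KoszOrthLib.isQCohD_of_isPerfect hE)
  haveI : Countable (KoszOrthLib.AX X) := hA
  have hN := countable_homology (KoszOrthLib.isPerfect_of_tX (PerfLib.isPerfect_of_iso e.symm hE)) i
  let N := (DerivedCategory.homologyFunctor (ModuleCat.{u} (KoszOrthLib.AX X)) i).obj M
  refine countable_sections_of_iso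
    ((KoszOrthLib.tXHIso i M).symm ≪≫ (DerivedCategory.homologyFunctor X.Modules i).mapIso e) ?_
  change Countable Γ((tilde.functor (CommRingCat.of (KoszOrthLib.AX X))).obj N, X.isoSpec.hom ''ᵁ ⊤)
  have h : X.isoSpec.hom ''ᵁ ⊤ = ⊤ := by
    rw [Scheme.Hom.image_top_eq_opensRange, Scheme.Hom.opensRange_of_isIso]
  rw [h]
  exact @Function.Injective.countable _ _ hN _ ((tilde.toTildeΓNatIso.app N).toLinearEquiv).toEquiv.symm.injective

theorem countable_sections_of_isPerfect (hX : ∀ U : X.Opens, IsAffineOpen U → Countable Γ(X, U)) {E : DCoh.D X}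
    (hE : DCoh.IsPerfect E) {W : X.Opens} (hW : IsAffineOpen W) (i : ℤ) : Countable Γ(DCoh.HD E i, W) := by
  haveI : IsAffine (W : Scheme.{u}) := hW
  haveI := hX W hW
  have hA : Countable Γ((W : Scheme.{u}), ⊤) :=
    W.topIso.commRingCatIsoToRingEquiv.toEquiv.injective.countable
  have h := countable_sections_affine hA (KoszOrthLib.isPerfect_restrictD W.ι hE) i
  have h' : Countable Γ(DCoh.HD E i, W.ι ''ᵁ ⊤) :=
    countable_sections_of_iso (W := (⊤ : (W : Scheme.{u}).Opens)) (DCohRestrLib.restrictHDIso W.ι E i) h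
  rwa [Scheme.Opens.ι_image_top] at h'

end Groth.Agent.CountHomLib
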