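import Groth.Agent.CountHomLib.Main
import Groth.Agent.KoszOrthLib.Compact
import Groth.Prelude.Def_DerLim

/-!
# Objects with countable sections are countable homotopy colimits of perfect objects
-/

set_option autoImplicit false
set_option linter.style.haveILetI false
set_option backward.isDefEq.respectTransparency false
set_option backward.isDefEq.respectTransparency.types false
set_option maxHeartbeats 1000000

universe u w v

open CategoryTheory CategoryTheory.Limits AlgebraicGeometry CategoryTheory.Pretriangulated Opposite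
open scoped ZeroObject
open PerfCompLib (FinFac cut proj)

attribute [local instance] HasDerivedCategory.standard

namespace Groth.Agent.CountHomLib

section Abstract

variable {D : Type w} [Category.{v} D] [Preadditive D] [HasZeroObject D] [HasShift D ℤ]
  [∀ n : ℤ, (shiftFunctor D n).Additive] [Pretriangulated D] [HasBinaryBiproducts D]
  (P : D → Prop) (G K : D)

/-- A stage of the tower: an object over `K` with the pending classes to kill. -/
structure Stage where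
  /-- the object -/
  E : D
  /-- the map -/
  i : E ⟶ K
  prop : P E
  /-- the pending classes -/
  task : ℕ → ℕ → Σ j : ℤ, (G⟦j⟧ ⟶ E)
  task_comp : ∀ m t, (task m t).2 ≫ i = 0

variable {P G K}

theorem prop_ite {α : Sort*} (Q : α → Prop) {c : Prop} [Decidable c] {a b : α} (ha : c → Q a) (hb : Q b) :
    Q (if c then a else b) := by
  by_cases h : c
  · rw [if_pos h]
    exact ha h
  · rw [if_neg h]
    exact hb

theorem exists_next (hshift : ∀ n : ℤ, P (G⟦n⟧)) (hsum : ∀ A B : D, P A → P B → P (A ⊞ B))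
    (hcone : ∀ T : Triangle D, T ∈ distTriang D → P T.obj₁ → P T.obj₂ → P T.obj₃)
    (hc : ∀ E, P E → ∀ j : ℤ, Countable (G⟦j⟧ ⟶ E)) (surj : ℕ → Σ j : ℤ, (G⟦j⟧ ⟶ K))
    (n : ℕ) (S : Stage P G K) :
    ∃ (S' : Stage P G K) (f : S.E ⟶ S'.E), f ≫ S'.i = S.i ∧
      (∀ m t, m ≤ n → S'.task m t = ⟨(S.task m t).1, (S.task m t).2 ≫ f⟩) ∧
      (∀ (j : ℤ) (φ : G⟦j⟧ ⟶ S'.E), φ ≫ S'.i = 0 → ∃ t, S'.task (n + 1) t = ⟨j, φ⟩) ∧
      (∃ ψ : G⟦(surj n).1⟧ ⟶ S'.E, ψ ≫ S'.i = (surj n).2) ∧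
      (S.task (Nat.unpair n).1 (Nat.unpair n).2).2 ≫ f = 0 := by
  classical
  let j₀ := (surj n).1
  let tk := S.task (Nat.unpair n).1 (Nat.unpair n).2
  let E₁ := S.E ⊞ G⟦j₀⟧
  let i₁ : E₁ ⟶ K := biprod.desc S.i (surj n).2
  obtain ⟨E', q, d, hT⟩ := distinguished_cocone_triangle (tk.2 ≫ (biprod.inl : S.E ⟶ E₁))
  obtain ⟨i', hi'⟩ := Triangle.yoneda_exact₂ _ hT i₁ (by
    change (tk.2 ≫ biprod.inl) ≫ biprod.desc S.i (surj n).2 = 0
    rw [Category.assoc, biprod.inl_desc]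
    exact S.task_comp _ _)
  change E' ⟶ K at i'
  change i₁ = q ≫ i' at hi'
  have hE' : P E' := hcone _ hT (hshift _) (hsum _ _ S.prop (hshift _))
  let Ker := {p : Σ j : ℤ, (G⟦j⟧ ⟶ E') // p.2 ≫ i' = 0}
  haveI := fun j => hc E' hE' j
  haveI : Nonempty Ker := ⟨⟨⟨0, 0⟩, zero_comp⟩⟩
  obtain ⟨enum, henum⟩ := exists_surjective_nat Ker
  let f : S.E ⟶ E' := biprod.inl ≫ q
  have hf : f ≫ i' = S.i := by rw [Category.assoc, ← hi', biprod.inl_desc]
  refine ⟨⟨E', i', hE', fun m t => if m ≤ n then ⟨(S.task m t).1, (S.task m t).2 ≫ f⟩ else (enum t).1,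
    fun m t => ?_⟩, f, hf, fun m t hm => ?_, fun j φ hφ => ?_, ⟨biprod.inr ≫ q, ?_⟩, ?_⟩
  · refine prop_ite (fun p : Σ j : ℤ, (G⟦j⟧ ⟶ E') => p.2 ≫ i' = 0) (fun _ => ?_) (enum t).2
    change ((S.task m t).2 ≫ f) ≫ i' = 0
    rw [Category.assoc, hf]
    exact S.task_comp m t
  · exact if_pos hm
  · obtain ⟨t, ht⟩ := henum ⟨⟨j, φ⟩, hφ⟩
    refine ⟨t, (if_neg (by omega)).trans ?_⟩
    rw [ht]
  · change (biprod.inr ≫ q) ≫ i' = _
    rw [Category.assoc, ← hi', biprod.inr_desc]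
  · exact (Category.assoc _ _ _).symm.trans (comp_distTriang_mor_zero₁₂ _ hT)

/-- A tower of members of `P` over `K`, surjective and injective in the limit on maps out of shifts of `G`. -/
theorem exists_tower (hzero : P 0) (hshift : ∀ n : ℤ, P (G⟦n⟧)) (hsum : ∀ A B : D, P A → P B → P (A ⊞ B))
    (hcone : ∀ T : Triangle D, T ∈ distTriang D → P T.obj₁ → P T.obj₂ → P T.obj₃)
    (hc : ∀ E, P E → ∀ j : ℤ, Countable (G⟦j⟧ ⟶ E)) (hK : ∀ j : ℤ, Countable (G⟦j⟧ ⟶ K)) :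
    ∃ (E : ℕ → D) (f : ∀ n, E n ⟶ E (n + 1)) (i : ∀ n, E n ⟶ K), (∀ n, P (E n)) ∧
      (∀ n, f n ≫ i (n + 1) = i n) ∧
      (∀ (j : ℤ) (ξ : G⟦j⟧ ⟶ K), ∃ (n : ℕ) (ψ : G⟦j⟧ ⟶ E n), ψ ≫ i n = ξ) ∧
      ∀ (m : ℕ) (j : ℤ) (φ : G⟦j⟧ ⟶ E m), φ ≫ i m = 0 →
        ∀ (g : ∀ n, G⟦j⟧ ⟶ E n), g m = φ → (∀ n, m ≤ n → g (n + 1) = g n ≫ f n) →
          ∃ N, m ≤ N ∧ g N = 0 := by
  classical
  haveI := hK
  haveI : Nonempty (Σ j : ℤ, (G⟦j⟧ ⟶ K)) := ⟨⟨0, 0⟩⟩
  obtain ⟨surj, hsurj⟩ := exists_surjective_nat (Σ j : ℤ, (G⟦j⟧ ⟶ K))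
  choose nx fn hfi htk hnew hs hkill using fun (n : ℕ) (S : Stage P G K) =>
    exists_next hshift hsum hcone hc surj n S
  haveI := fun j => hc 0 hzero j
  haveI : Nonempty {p : Σ j : ℤ, (G⟦j⟧ ⟶ (0 : D)) // p.2 ≫ (0 : (0 : D) ⟶ K) = 0} := ⟨⟨⟨0, 0⟩, zero_comp⟩⟩
  obtain ⟨e₀, he₀⟩ := exists_surjective_nat {p : Σ j : ℤ, (G⟦j⟧ ⟶ (0 : D)) // p.2 ≫ (0 : (0 : D) ⟶ K) = 0}
  let S₀ : Stage P G K := ⟨0, 0, hzero, fun _ t => (e₀ t).1, fun _ t => (e₀ t).2⟩
  let St : ℕ → Stage P G K := fun n => Nat.rec S₀ (fun n S => nx n S) n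
  let f : ∀ n, (St n).E ⟶ (St (n + 1)).E := fun n => fn n (St n)
  refine ⟨fun n => (St n).E, f, fun n => (St n).i, fun n => (St n).prop, fun n => hfi n (St n),
    fun j ξ => ?_, fun m j φ hφ g hg hgs => ?_⟩
  · obtain ⟨n, hn⟩ := hsurj ⟨j, ξ⟩
    have h := hs n (St n)
    refine ⟨n + 1, ?_⟩
    rw [hn] at h
    exact h
  · obtain ⟨t, ht⟩ : ∃ t, (St m).task m t = ⟨j, φ⟩ := by
      cases m with
      | zero =>
        obtain ⟨t, ht⟩ := he₀ ⟨⟨j, φ⟩, hφ⟩
        exact ⟨t, congrArg Subtype.val ht⟩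
      | succ m => exact hnew m (St m) j φ hφ
    have hpush : ∀ n, m ≤ n → (St n).task m t = ⟨j, g n⟩ := by
      intro n hn
      induction n, hn using Nat.le_induction with
      | base => rw [ht, hg]
      | succ n hn ih =>
        refine (htk n (St n) m t hn).trans ?_
        rw [hgs n hn, ih]
    let N := Nat.pair m t
    have hN : m ≤ N := Nat.left_le_pair m t
    refine ⟨N + 1, by omega, ?_⟩
    have h : ((St N).task (Nat.unpair N).1 (Nat.unpair N).2).2 ≫ f N = 0 := hkill N (St N)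
    rw [Nat.unpair_pair, hpush N hN] at h
    rw [hgs N hN]
    exact h

end Abstract

variable {X : Scheme.{u}} [CompactSpace X] [QuasiSeparatedSpace X]

/-- Compactness of perfect objects against sequences. -/
theorem finFac_nat [HasColimitsOfShape (Discrete ℕ) (DCoh.D X)] {P : DCoh.D X} (hP : DCoh.IsPerfect P)
    (E : ℕ → DCoh.D X) (hE : ∀ n, DCoh.IsQCohD (E n)) : FinFac E P := by
  classical
  haveI := KoszOrthLib.hasCoproducts_D X
  intro f
  let M : ULift.{u} ℕ → DCoh.D X := fun i => E i.down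
  let a : ∐ E ⟶ ∐ M := Sigma.desc fun i => Sigma.ι M ⟨i⟩
  let b : ∐ M ⟶ ∐ E := Sigma.desc fun i => Sigma.ι E i.down
  have hab : a ≫ b = 𝟙 _ := Sigma.hom_ext _ _ fun i => by simp [a, b, M]
  obtain ⟨S, hS⟩ := KoszOrthLib.finFac_of_isQCohD hP M (fun i => hE i.down) (f ≫ a)
  refine ⟨S.image ULift.down, ?_⟩
  have hc : cut E (S.image ULift.down) = a ≫ cut M S ≫ b := Sigma.hom_ext _ _ fun i => by
    have hi : i ∈ S.image ULift.down ↔ (⟨i⟩ : ULift.{u} ℕ) ∈ S := by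
      refine ⟨fun h => ?_, fun h => Finset.mem_image_of_mem _ h⟩
      obtain ⟨⟨j⟩, hj, rfl⟩ := Finset.mem_image.1 h
      exact hj
    rw [PerfCompLib.ι_cut, Sigma.ι_desc_assoc, ← Category.assoc, PerfCompLib.ι_cut]
    by_cases h : (⟨i⟩ : ULift.{u} ℕ) ∈ S
    · rw [if_pos (hi.2 h), if_pos h]
      simp [b, M]
    · rw [if_neg fun hh => h (hi.1 hh), if_neg h, zero_comp]
  have h2 : f ≫ (a ≫ cut M S ≫ b) = (f ≫ a ≫ b) :=
    (by simp only [Category.assoc] : f ≫ (a ≫ cut M S ≫ b) = ((f ≫ a) ≫ cut M S) ≫ b).trans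
      ((congrArg (· ≫ b) hS).trans (Category.assoc _ _ _))
  rw [hc, h2, hab, Category.comp_id]

theorem isQCohD_sigma_nat [HasColimitsOfShape (Discrete ℕ) (DCoh.D X)] (E : ℕ → DCoh.D X)
    (hE : ∀ n, DCoh.IsQCohD (E n)) : DCoh.IsQCohD (∐ E) := by
  haveI := KoszOrthLib.hasCoproducts_D X
  let M : ULift.{u} ℕ → DCoh.D X := fun i => E i.down
  let e : ∐ M ≅ ∐ E := Sigma.whiskerEquiv Equiv.ulift fun i => Iso.refl (E i.down)
  exact KFlatLib.isQCohD_iso e (KFlatLib.isQCohD_coproduct M fun i => hE i.down)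

/-- Maps into the cone of one minus the shift, out of a compact object. -/
theorem exists_stage_of_hom_cone [HasColimitsOfShape (Discrete ℕ) (DCoh.D X)] {P : DCoh.D X} (hP : DCoh.IsPerfect P)
    (E : ℕ → DCoh.D X) (f : ∀ n, E n ⟶ E (n + 1)) (hE : ∀ n, DCoh.IsQCohD (E n)) {L : DCoh.D X}
    (q : ∐ E ⟶ L) (d : L ⟶ (∐ E)⟦(1 : ℤ)⟧)
    (hT : Triangle.mk (𝟙 (∐ E) - DerLim.shiftMap E f) q d ∈ distTriang _) (φ : P ⟶ L) :
    ∃ (n : ℕ) (ψ : P ⟶ E n), ψ ≫ Sigma.ι E n ≫ q = φ := by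
  classical
  have hι : ∀ n, f n ≫ Sigma.ι E (n + 1) ≫ q = Sigma.ι E n ≫ q := fun n => by
    have h := congrArg (Sigma.ι E n ≫ ·) (comp_distTriang_mor_zero₁₂ _ hT)
    change Sigma.ι E n ≫ (𝟙 (∐ E) - DerLim.shiftMap E f) ≫ q = Sigma.ι E n ≫ 0 at h
    simp only [comp_zero, DerLim.shiftMap, Preadditive.sub_comp, Category.id_comp, Preadditive.comp_sub,
      Sigma.ι_desc_assoc, Category.assoc] at h
    exact (sub_eq_zero.1 h).symm
  have hd : φ ≫ d = 0 := by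
    let e := (shiftFunctorCompIsoId (DCoh.D X) (-1 : ℤ) (1 : ℤ) (by omega)).app P
    obtain ⟨y, hy⟩ := (shiftFunctor (DCoh.D X) (1 : ℤ)).map_surjective (e.hom ≫ φ ≫ d)
    have hy0 : y ≫ (𝟙 (∐ E) - DerLim.shiftMap E f) = 0 := by
      apply (shiftFunctor (DCoh.D X) (1 : ℤ)).map_injective
      rw [Functor.map_comp, hy, Functor.map_zero, Category.assoc, Category.assoc]
      exact (congrArg (fun z => e.hom ≫ φ ≫ z) (comp_distTriang_mor_zero₃₁ _ hT)).trans
        ((congrArg (e.hom ≫ ·) comp_zero).trans comp_zero)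
    have hp : ∀ n, y ≫ proj E n = 0 := by
      intro n
      induction n with
      | zero =>
        have h0 : DerLim.shiftMap E f ≫ proj E 0 = 0 := Sigma.hom_ext _ _ fun i => by
          simp [DerLim.shiftMap, proj]
        have h := congrArg (· ≫ proj E 0) hy0
        simpa [Preadditive.comp_sub, Preadditive.sub_comp, h0] using h
      | succ n ih =>
        have hn : DerLim.shiftMap E f ≫ proj E (n + 1) = proj E n ≫ f n := Sigma.hom_ext _ _ fun i => by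
          rcases eq_or_ne i n with rfl | h
          · simp [DerLim.shiftMap, proj]
          · simp [DerLim.shiftMap, proj, h]
        have h := congrArg (· ≫ proj E (n + 1)) hy0
        simp only [Category.assoc, Preadditive.sub_comp, Category.id_comp, hn, Preadditive.comp_sub,
          reassoc_of% ih, zero_comp, sub_zero] at h
        exact h
    obtain ⟨S, hS⟩ := finFac_nat (PerfLib.isPerfect_shift hP (-1)) E hE y
    have hy' : y = 0 := by
      rw [← hS, PerfCompLib.cut_eq_sum, Preadditive.comp_sum]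
      exact Finset.sum_eq_zero fun k _ => by rw [← Category.assoc, hp k, zero_comp]
    rw [hy', Functor.map_zero] at hy
    exact zero_of_epi_comp e.hom hy.symm
  obtain ⟨z, hz⟩ := Triangle.coyoneda_exact₃ _ hT φ hd
  change P ⟶ ∐ E at z
  change φ = z ≫ q at hz
  obtain ⟨S, hS⟩ := finFac_nat hP E hE z
  have hlift : ∀ n N, n ≤ N → ∀ a : P ⟶ E n, ∃ b : P ⟶ E N, b ≫ Sigma.ι E N ≫ q = a ≫ Sigma.ι E n ≫ q := by
    intro n N h
    induction N, h using Nat.le_induction with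
    | base => exact fun a => ⟨a, rfl⟩
    | succ N _ ih =>
      intro a
      obtain ⟨b, hb⟩ := ih a
      exact ⟨b ≫ f N, by rw [Category.assoc, hι, hb]⟩
  choose w hw using fun k : {k // k ∈ S} => hlift k.1 (S.sup id) (Finset.le_sup (f := id) k.2) (z ≫ proj E k.1)
  refine ⟨S.sup id, ∑ k ∈ S.attach, w k, ?_⟩
  rw [hz, ← hS, PerfCompLib.cut_eq_sum, Preadditive.comp_sum, Preadditive.sum_comp, Preadditive.sum_comp,
    ← Finset.sum_attach S]
  refine Finset.sum_congr rfl fun k _ => (hw k).trans ?_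
  simp only [Category.assoc]

/-- A countable object is a homotopy colimit of a sequence of perfect objects. -/
theorem exists_hocolim (hX : ∀ U : X.Opens, IsAffineOpen U → Countable Γ(X, U))
    [HasColimitsOfShape (Discrete ℕ) (DCoh.D X)] {K : DCoh.D X} (hK : DCoh.IsQCohD K) (hKc : CountSec K) :
    ∃ (E : ℕ → DCoh.D X) (f : ∀ n, E n ⟶ E (n + 1)) (i : ∀ n, E n ⟶ K),
      (∀ n, DCoh.IsPerfect (E n)) ∧ DerLim.IsHocolim E f K i := by
  classical
  obtain ⟨G, hG, -, hgen⟩ := KoszOrthLib.hasGen_of_qcqs X Set.univ isClosed_univ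
    (by rw [Set.compl_univ]; exact IsRetrocompact.empty)
  haveI : HasBinaryBiproducts (DCoh.D X) := HasBinaryBiproducts.of_hasBinaryProducts
  have hsec : ∀ E : DCoh.D X, DCoh.IsPerfect E → CountSec E := fun E hE =>
    (countSec_iff (KoszOrthLib.isQCohD_of_isPerfect hE)).2 fun W hW j => countable_sections_of_isPerfect hX hE hW j
  have hom : ∀ L : DCoh.D X, CountSec L → ∀ j : ℤ, Countable (G⟦j⟧ ⟶ L) := fun L hL j =>
    countable_of_iso (Iso.refl _) ((shiftFunctorZero (DCoh.D X) ℤ).app L)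
      (ch_of_isPerfect hL (PerfLib.isPerfect_shift hG j) 0)
  obtain ⟨E, f, i, hE, hfi, hsurj, hinj⟩ := exists_tower (P := fun E : DCoh.D X => DCoh.IsPerfect E) (G := G) (K := K)
    (PerfLib.isPerfect_of_isZero (isZero_zero _)) (fun n => PerfLib.isPerfect_shift hG n)
    (fun A B hA hB => PerfLib.isPerfect_obj₂ _ (binaryBiproductTriangle_distinguished A B) hA hB)
    (fun T hT h₁ h₂ => PerfLib.isPerfect_obj₃ T hT h₁ h₂)
    (fun E hE => hom E (hsec E hE)) (hom K hKc)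
  have hq : ∀ n, DCoh.IsQCohD (E n) := fun n => KoszOrthLib.isQCohD_of_isPerfect (hE n)
  obtain ⟨L, q, d, hT⟩ := distinguished_cocone_triangle (𝟙 (∐ E) - DerLim.shiftMap E f)
  obtain ⟨v, hv⟩ := Triangle.yoneda_exact₂ _ hT (Sigma.desc i) (Sigma.hom_ext _ _ fun n => by
    change Sigma.ι E n ≫ (𝟙 (∐ E) - DerLim.shiftMap E f) ≫ Sigma.desc i = Sigma.ι E n ≫ 0
    simp [DerLim.shiftMap, Preadditive.sub_comp, hfi n])
  change L ⟶ K at v
  change Sigma.desc i = q ≫ v at hv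
  have hvn : ∀ n, Sigma.ι E n ≫ q ≫ v = i n := fun n => by rw [← hv, Sigma.ι_desc]
  have hι : ∀ n, f n ≫ Sigma.ι E (n + 1) ≫ q = Sigma.ι E n ≫ q := fun n => by
    have h := congrArg (Sigma.ι E n ≫ ·) (comp_distTriang_mor_zero₁₂ _ hT)
    change Sigma.ι E n ≫ (𝟙 (∐ E) - DerLim.shiftMap E f) ≫ q = Sigma.ι E n ≫ 0 at h
    simp only [comp_zero, DerLim.shiftMap, Preadditive.sub_comp, Category.id_comp, Preadditive.comp_sub,
      Sigma.ι_desc_assoc, Category.assoc] at h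
    exact (sub_eq_zero.1 h).symm
  have hL : DCoh.IsQCohD L := KFlatLib.isQCohD₂ (rot_of_distTriang _ hT) (isQCohD_sigma_nat E hq)
    (KFlatLib.isQCohD_shift (isQCohD_sigma_nat E hq) 1)
  have hinj' : ∀ (j : ℤ) (φ : G⟦j⟧ ⟶ L), φ ≫ v = 0 → φ = 0 := by
    intro j φ hφ
    obtain ⟨n, ψ, hψ⟩ := exists_stage_of_hom_cone (PerfLib.isPerfect_shift hG j) E f hq q d hT φ
    have h0 : ψ ≫ i n = 0 := by rw [← hvn n, ← hφ, ← hψ]; simp only [Category.assoc]
    let g : ∀ m, G⟦j⟧ ⟶ E m := fun m =>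
      if h : n ≤ m then Nat.leRecOn (C := fun k => G⟦j⟧ ⟶ E k) h (fun {k} a => a ≫ f k) ψ else 0
    have hg : g n = ψ := by
      simp only [g, dif_pos le_rfl]
      exact Nat.leRecOn_self (C := fun k => G⟦j⟧ ⟶ E k) (next := fun {k} a => a ≫ f k) ψ
    have hgs : ∀ m, n ≤ m → g (m + 1) = g m ≫ f m := fun m hm => by
      simp only [g, dif_pos hm, dif_pos (hm.trans m.le_succ)]
      exact Nat.leRecOn_succ (C := fun k => G⟦j⟧ ⟶ E k) (next := fun {k} a => a ≫ f k) hm ψ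
    obtain ⟨N, hN, hgN⟩ := hinj n j ψ h0 g hg hgs
    have hpush : ∀ m, n ≤ m → g m ≫ Sigma.ι E m ≫ q = φ := by
      intro m hm
      induction m, hm using Nat.le_induction with
      | base => rw [hg, hψ]
      | succ m hm ih => rw [hgs m hm, Category.assoc, hι, ih]
    rw [← hpush N hN, hgN, zero_comp]
  obtain ⟨Z, p, r, hZ⟩ := distinguished_cocone_triangle v
  have hz : IsZero Z := by
    refine hgen Z (KFlatLib.isQCohD₂ (rot_of_distTriang _ hZ) hK (KFlatLib.isQCohD_shift hL 1))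
      (fun _ => Set.subset_univ _) fun j φ => ?_
    have hr : φ ≫ r = 0 := by
      let e : (G⟦j + -1⟧)⟦(1 : ℤ)⟧ ≅ G⟦j⟧ :=
        ((shiftFunctorAdd' (DCoh.D X) (j + -1) (1 : ℤ) j (by omega)).app G).symm
      obtain ⟨y, hy⟩ := (shiftFunctor (DCoh.D X) (1 : ℤ)).map_surjective (e.hom ≫ φ ≫ r)
      have hy0 : y ≫ v = 0 := by
        apply (shiftFunctor (DCoh.D X) (1 : ℤ)).map_injective
        rw [Functor.map_comp, hy, Functor.map_zero, Category.assoc, Category.assoc]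
        exact (congrArg (fun z => e.hom ≫ φ ≫ z) (comp_distTriang_mor_zero₃₁ _ hZ)).trans
          ((congrArg (e.hom ≫ ·) comp_zero).trans comp_zero)
      rw [hinj' _ y hy0, Functor.map_zero] at hy
      exact zero_of_epi_comp e.hom hy.symm
    obtain ⟨ξ, hξ⟩ := Triangle.coyoneda_exact₃ _ hZ φ hr
    change G⟦j⟧ ⟶ K at ξ
    change φ = ξ ≫ p at hξ
    obtain ⟨n, ψ, hψ⟩ := hsurj j ξ
    rw [hξ, ← hψ, ← hvn n]
    simp only [Category.assoc]
    have hvp : v ≫ p = 0 := comp_distTriang_mor_zero₁₂ _ hZ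
    rw [hvp, comp_zero, comp_zero, comp_zero]
  haveI : IsIso v := (Triangle.isZero₃_iff_isIso₁ _ hZ).1 hz
  refine ⟨E, f, i, hE, inv v ≫ d, isomorphic_distinguished _ hT _
    (Triangle.isoMk _ _ (Iso.refl _) (Iso.refl _) (asIso v).symm (by simp) ?_ (by simp))⟩
  simp [hv]

end Groth.Agent.CountHomLib
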